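import Groth.Agent.CycLib28.PB.Span.Stratum
import Groth.Agent.CycLib28.PB.ChernUnique
import Groth.Agent.CycLib28.Intersect.Iterate

/-!
# The classes `c₁(O(1))^i ∩ π^*` span the Chow groups of a projective bundle
-/

set_option autoImplicit false
set_option linter.unusedSectionVars false
set_option linter.style.haveILetI false
set_option backward.isDefEq.respectTransparency.types false

universe u

open AlgebraicGeometry CategoryTheory Groth.Agent.CycLim28
open Groth.Agent.KRRPBLib Groth.Agent.Coherent Groth.Agent.PicLib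

namespace Groth.Agent.CycLib28.PB.Span

variable {X P : Scheme.{u}} {E : X.Modules} {π : P ⟶ X} {O1 : P.Modules}
  {q : (Scheme.Modules.pullback π).obj E ⟶ O1} {m : ℕ} {δ : X → ℤ} {δP : P → ℤ}
  [IsLocallyNoetherian X] [IsLocallyNoetherian P] [Coh.IsQCoh E]
  (hE : FlatMod.IsFinLocFreeOfRank (m + 1) E) (hP : KRR.IsProjBundle π E O1 q) [IsProper π]
  (hdf : Cyc.IsDimFun X δ) (hdP : Cyc.IsDimFun P δP) (hc : Cyc.DeltaCompat π δP δ)

include hP in
theorem exists_stratum (y : P) :
    ∃ j, y ∈ D q ((baseChart hE (π y)).b j) ∧ ∀ i < j, y ∉ D q ((baseChart hE (π y)).b i) := by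
  obtain ⟨l, hl⟩ := exists_mem_D hP (baseChart hE (π y)).b (show y ∈ π ⁻¹ᵁ _ from (baseChart hE (π y)).mem)
    (baseChart hE (π y)).isAffine
  induction l using WellFoundedLT.induction with
  | ind l ih =>
    by_cases h : ∀ i < l, y ∉ D q ((baseChart hE (π y)).b i)
    · exact ⟨l, hl, h⟩
    · push Not at h
      obtain ⟨i, hi, hiy⟩ := h
      exact ih i hi hiy

/-- The stratum of a point. -/
noncomputable def stratum (y : P) : Fin (m + 1) := (exists_stratum hE hP y).choose

theorem stratum_mem (y : P) : y ∈ D q ((baseChart hE (π y)).b (stratum hE hP y)) :=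
  (exists_stratum hE hP y).choose_spec.1

theorem notMem_of_lt (y : P) {i : Fin (m + 1)} (hi : i < stratum hE hP y) :
    y ∉ D q ((baseChart hE (π y)).b i) :=
  (exists_stratum hE hP y).choose_spec.2 i hi

theorem mem_range_iff {ξ : X} {j : Fin (m + 1)} {y : P} :
    y ∈ Set.range (stratumι hP (baseChart hE ξ).isAffine (baseChart hE ξ).b (baseChart hE ξ).mem j) ↔
      π y = ξ ∧ stratum hE hP y = j := by
  rw [mem_range_stratumι]
  constructor
  · rintro ⟨rfl, h1, h2⟩
    refine ⟨rfl, le_antisymm (not_lt.1 fun h => notMem_of_lt hE hP y h h1) (not_lt.1 fun h => ?_)⟩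
    exact h2 _ h (stratum_mem hE hP y)
  · rintro ⟨rfl, rfl⟩
    exact ⟨rfl, stratum_mem hE hP y, fun i hi => notMem_of_lt hE hP y hi⟩

theorem stratum_eta (ξ : X) (j : Fin (m + 1)) : stratum hE hP (eta hE hP ξ j) = j :=
  ((mem_range_iff hE hP).1 ((mem_range_stratumι hP _ _ _).2 ⟨π_eta hE hP ξ j,
    flagPtIn_mem hP _ _ _ j j, fun i hi h =>
      not_le.2 hi ((flagPtIn_mem_D_iff hP (baseChart hE ξ).isAffine (baseChart hE ξ).b (baseChart hE ξ).mem
        le_rfl i).1 h)⟩)).2

/-- The measure of a point: fibre dimension, then stratum. -/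
noncomputable def meas (δ : X → ℤ) (δP : P → ℤ) (y : P) : ℤ :=
  (δP y - δ (π y)) * (m + 1) + (stratum hE hP y : ℕ)

include hdP hc in
theorem meas_eta (ξ : X) (j : Fin (m + 1)) :
    meas hE hP δ δP (eta hE hP ξ j) = ((m : ℤ) - (j : ℕ)) * (m + 1) + (j : ℕ) := by
  rw [meas, stratum_eta, delta_eta hE hP hdP hc, π_eta]
  ring

include hE hP hdP hc in
theorem delta_sub_le (y : P) : δP y - δ (π y) ≤ m := by
  have h := le_of_specializes hdP (flagPt_specializes hP (baseChart hE (π y)).isAffine (baseChart hE (π y)).b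
    (baseChart hE (π y)).mem 0 (y := y) rfl fun i hi => absurd hi (by simp))
  have e := delta_eta hE hP hdP hc (π y) 0
  rw [eta] at e
  rw [e] at h
  simp at h
  omega

include hdP hc in
theorem meas_lt (y : P) : meas hE hP δ δP y < ((m : ℤ) + 1) * (m + 1) := by
  have h := delta_sub_le hE hP hdP hc y
  have h2 := (stratum hE hP y).2
  rw [meas]
  nlinarith

include hc in
theorem meas_nonneg (y : P) : 0 ≤ meas hE hP δ δP y := by
  have h := delta_le' π hc y
  have : (0 : ℤ) ≤ ((stratum hE hP y : ℕ) : ℤ) := Int.natCast_nonneg _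
  rw [meas]
  nlinarith

include hdf in
theorem meas_gt_of_lower {K : ℤ} {j : Fin (m + 1)} {ξ : X} {y : P} (hy : δP y = K) (hs : ξ ⤳ π y) (hne : ξ ≠ π y)
    {N : ℤ} (hN : N = (K - δ ξ) * (m + 1) + (j : ℕ)) : N < meas hE hP δ δP y := by
  have h := (hdf ξ (π y) hs hne).1
  have h2 := j.2
  have : (0 : ℤ) ≤ ((stratum hE hP y : ℕ) : ℤ) := Int.natCast_nonneg _
  rw [meas, hy, hN]
  nlinarith

include hdP in
open scoped Classical in
/-- The relation moving the non-generic points of exact measure `N`. -/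
theorem exists_move (hdf : Cyc.IsDimFun X δ) {K : ℤ} (β : AlgebraicCycle P ℤ) (hβ : β ∈ Cyc.Zk P δP K) (N : ℤ) :
    ∃ R : AlgebraicCycle P ℤ, Cyc.RatEquivZero δP K R ∧ R ∈ Cyc.Zk P δP K ∧ ∀ y, δP y = K → meas hE hP δ δP y ≤ N →
      R y = if meas hE hP δ δP y = N ∧ y ≠ eta hE hP (π y) (stratum hE hP y) then β y else 0 := by
  let S : Type u := {η : P // β η ≠ 0 ∧ meas hE hP δ δP η = N ∧ η ≠ eta hE hP (π η) (stratum hE hP η)}
  choose ι hfin ζ g hζ hg hζm hsum using fun η : S =>
    exists_stratum_rel hP (baseChart hE (π η.1)).isAffine (baseChart hE (π η.1)).b (baseChart hE (π η.1)).mem hdP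
      (j := stratum hE hP η.1) (η := η.1) ((mem_range_iff hE hP).2 ⟨rfl, rfl⟩) η.2.2.2
  have hηK : ∀ η : S, δP η.1 = K := fun η => by_contra fun h => η.2.1 (hβ η.1 h)
  let J : Type u := Σ η : S, ι η
  have hg' : ∀ p : J, g p.1 p.2 ^ β p.1.1 ≠ 0 := fun p => zpow_ne_zero _ (hg _ _)
  have hπζ : ∀ (η : S) (i : ι η), π (ζ η i) = π η.1 ∧ stratum hE hP (ζ η i) = stratum hE hP η.1 := fun η i =>
    (mem_range_iff hE hP).1 (hζm η i)
  have hloc : ∀ x : P, ∃ O : Set P, IsOpen O ∧ x ∈ O ∧ {p : J | (closure {ζ p.1 p.2} ∩ O).Nonempty}.Finite := by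
    intro x
    obtain ⟨_, ⟨V, hV, rfl⟩, hxV, -⟩ :=
      X.isBasis_affineOpens.exists_subset_of_mem_open (Set.mem_univ (π x)) isOpen_univ
    refine ⟨π ⁻¹' (V : Set X), V.2.preimage π.continuous, hxV, ?_⟩
    have hsupp := (Function.locallyFinsupp.locallyFiniteSupport β).finite_inter_support_of_isCompact
      (π.isCompact_preimage (show IsAffineOpen V from hV).isCompact)
    have hS : {η : S | π η.1 ∈ V}.Finite :=
      (hsupp.preimage Subtype.val_injective.injOn).subset fun η hη => ⟨hη, η.2.1⟩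
    refine (hS.biUnion fun η _ => Set.finite_range (haveI := hfin η; fun i : ι η => (⟨η, i⟩ : J))).subset ?_
    rintro ⟨η, i⟩ ⟨y, hy1, hy2⟩
    refine Set.mem_biUnion (x := η) ?_ ⟨i, rfl⟩
    show π η.1 ∈ V
    rw [← (hπζ η i).1]
    exact ((specializes_iff_mem_closure.2 hy1).map π.continuous).mem_open V.2 hy2
  obtain ⟨R, hR⟩ := exists_cycle_sum hdP (fun p : J => ζ p.1 p.2) (fun p => g p.1 p.2 ^ β p.1.1) hg' hloc
  have hRk : R ∈ Cyc.Zk P δP K := fun y hy => by
    rw [hR]
    refine finsum_eq_zero_of_forall_eq_zero fun p => ?_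
    rw [Cyc.divFun, dif_neg]
    intro hh
    have := hζ p.1 p.2
    have := hηK p.1
    have := hh.2
    omega
  refine ⟨R, ⟨J, fun p => ζ p.1 p.2, fun p => g p.1 p.2 ^ β p.1.1, fun p => by rw [hζ, hηK], hg', hloc, hR⟩, hRk,
    fun y hyK hy => ?_⟩
  have hterm : ∀ p : J, Cyc.divFun δP (ζ p.1 p.2) (g p.1 p.2 ^ β p.1.1) y =
      β p.1.1 * Cyc.divFun δP (ζ p.1 p.2) (g p.1 p.2) y := fun p => by
    simp only [Cyc.divFun]
    split_ifs with h
    · rw [ordAt_zpow hdP h.1 h.2 (hg _ _)]
    · rw [mul_zero]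
  -- only the family of `y` itself contributes
  have honly : ∀ p : J, Cyc.divFun δP (ζ p.1 p.2) (g p.1 p.2) y ≠ 0 →
      π y = π p.1.1 ∧ stratum hE hP y = stratum hE hP p.1.1 := by
    rintro ⟨η, i⟩ hne
    by_cases hsp : ζ η i ⤳ y
    swap
    · exact absurd (by rw [Cyc.divFun, dif_neg fun hh => hsp hh.1]) hne
    obtain ⟨hπi, hsi⟩ := hπζ η i
    have hs' := hsp.map π.continuous
    rw [hπi] at hs'
    have hN : N = (K - δ (π η.1)) * (m + 1) + (stratum hE hP η.1 : ℕ) := by
      have e := η.2.2.1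
      rw [meas, hηK] at e
      exact e.symm
    by_cases he : π η.1 = π y
    swap
    · exact absurd hy (not_le.2 (meas_gt_of_lower hE hP hdf hyK hs' he hN))
    refine ⟨he.symm, ?_⟩
    have hge : stratum hE hP η.1 ≤ stratum hE hP y := not_lt.1 fun hlt => by
      have hmem := hsp.mem_open (D q ((baseChart hE (π y)).b (stratum hE hP y))).2 (stratum_mem hE hP y)
      rw [← hsi] at hlt
      have := notMem_of_lt hE hP (ζ η i) hlt
      rw [hπi, he] at this
      exact this hmem
    refine le_antisymm ?_ hge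
    have e : meas hE hP δ δP y = (K - δ (π η.1)) * (m + 1) + (stratum hE hP y : ℕ) := by rw [meas, hyK, he]
    rw [e] at hy
    refine Fin.le_def.2 ?_
    show ((stratum hE hP y : ℕ)) ≤ (stratum hE hP η.1 : ℕ)
    omega
  -- the finitely many members in the stratum of `y`
  let T : Set S := {η | π η.1 = π y ∧ stratum hE hP η.1 = stratum hE hP y}
  have hT : T.Finite := ((finite_fibre_inter_support π β (π y)).preimage Subtype.val_injective.injOn).subset
    fun η hη => ⟨hη.1, η.2.1⟩
  haveI : ∀ η : S, Fintype (ι η) := fun η => haveI := hfin η; Fintype.ofFinite _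
  rw [hR, finsum_congr hterm, finsum_eq_sum_of_support_subset _
    (s := hT.toFinset.sigma fun η => (Finset.univ : Finset (ι η))) fun p hp => by
      obtain ⟨h1, h2⟩ := honly p (right_ne_zero_of_mul hp)
      rw [Finset.mem_coe, Finset.mem_sigma, Set.Finite.mem_toFinset]
      exact ⟨⟨h1.symm, h2.symm⟩, Finset.mem_univ _⟩]
  rw [Finset.sum_sigma]
  have hinner : ∀ η ∈ hT.toFinset, ∑ i : ι η, β η.1 * Cyc.divFun δP (ζ η i) (g η i) y =
      if y = η.1 then β η.1 else 0 := fun η hη => by
    rw [Set.Finite.mem_toFinset] at hη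
    rw [← Finset.mul_sum, ← finsum_eq_sum_of_fintype, hsum η y ((mem_range_iff hE hP).2 ⟨hη.1.symm, hη.2.symm⟩)]
    split_ifs <;> simp
  rw [Finset.sum_congr rfl hinner]
  by_cases hy0 : β y ≠ 0 ∧ meas hE hP δ δP y = N ∧ y ≠ eta hE hP (π y) (stratum hE hP y)
  · rw [Finset.sum_eq_single (⟨y, hy0⟩ : S)
      (fun (η : S) _ (hne : η ≠ ⟨y, hy0⟩) => if_neg fun (e : y = η.1) => hne (Subtype.ext e.symm))
      (fun h => absurd ((Set.Finite.mem_toFinset hT).2 (show (⟨y, hy0⟩ : S) ∈ T from ⟨rfl, rfl⟩)) h),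
      if_pos rfl, if_pos hy0.2]
  · rw [Finset.sum_eq_zero fun η _ => if_neg fun e : y = η.1 => hy0 (e ▸ η.2)]
    split_ifs with hcase
    · exact (not_not.1 fun h => hy0 ⟨h, hcase⟩).symm
    · rfl

/-- The sequence of sections used to form the spanning classes. -/
noncomputable abbrev u₀ : ℕ → (ξ : P) → Cyc.secFibre O1 ξ := flagSecs hE hP

/-- A cycle in the span of the classes. -/
def InSpan (δ : X → ℤ) (δP : P → ℤ) (k : ℤ) (β : AlgebraicCycle P ℤ) : Prop :=
  ∃ (α : Fin (m + 1) → AlgebraicCycle X ℤ) (b : Fin (m + 1) → AlgebraicCycle P ℤ),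
    (∀ i : Fin (m + 1), α i ∈ Cyc.Zk X δ (k + ((i : ℕ) : ℤ))) ∧
    (∀ i : Fin (m + 1), ⇑(b i) = Cyc.c1PowFun δP O1 (u₀ hE hP) i (Cyc.pullFun π δP δ (m : ℤ) ⇑(α i))) ∧
    Cyc.RatEquiv δP (k + m) β (∑ i, b i)

include hdf hdP hc in
open scoped Classical in
theorem inSpan_step {k : ℤ} (β : AlgebraicCycle P ℤ) (hβ : β ∈ Cyc.Zk P δP (k + m)) (N : ℤ)
    (hN : ∀ y, β y ≠ 0 → N ≤ meas hE hP δ δP y)
    (ih : ∀ β' : AlgebraicCycle P ℤ, β' ∈ Cyc.Zk P δP (k + m) →
      (∀ y, β' y ≠ 0 → N + 1 ≤ meas hE hP δ δP y) → InSpan hE hP δ δP k β') :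
    InSpan hE hP δ δP k β := by
  obtain ⟨R, hR0, hRk, hR⟩ := exists_move hE hP hdP hdf β hβ N
  have hinv := isInvertible_of_rankOne hP.invertible
  have hu : ∀ j ξ, u₀ hE hP j ξ ≠ 0 := flagSecs_ne_zero hE hP
  have hvanish : ∀ (α : AlgebraicCycle X ℤ) (j : Fin (m + 1)) (bb : AlgebraicCycle P ℤ),
      α ∈ Cyc.Zk X δ (k + ((j : ℕ) : ℤ)) →
      ⇑bb = Cyc.c1PowFun δP O1 (u₀ hE hP) j (Cyc.pullFun π δP δ (m : ℤ) ⇑α) →
      bb ∈ Cyc.Zk P δP (k + m) := fun α j bb hα hb => by
    obtain ⟨a, ha, hak⟩ := exists_pullback hE hP hdP hc _ α hα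
    obtain ⟨c, hc', hck⟩ := exists_pow_cycles hdP hinv a hak (u₀ hE hP) hu
      (fun i => Cyc.c1PowFun δP O1 (u₀ hE hP) i ⇑a) rfl (fun _ => rfl) j
    rw [show bb = c from DFunLike.coe_injective (by rw [hb, hc', ha])]
    intro x hx
    exact hck x fun e => hx (by rw [e]; ring)
  by_cases hflag : ∃ j : Fin (m + 1), N = ((m : ℤ) - (j : ℕ)) * (m + 1) + (j : ℕ)
  · obtain ⟨j, hj⟩ := hflag
    have hlf : ∀ x ∈ (⊤ : Set X), ∃ t ∈ nhds x,
        (t ∩ Function.support fun ξ => if δ ξ = k + ((j : ℕ) : ℤ) then β (eta hE hP ξ j) else 0).Finite := by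
      intro x _
      obtain ⟨_, ⟨V, hV, rfl⟩, hxV, -⟩ := X.isBasis_affineOpens.exists_subset_of_mem_open (Set.mem_univ x) isOpen_univ
      refine ⟨V, V.2.mem_nhds hxV, ?_⟩
      have hsupp := (Function.locallyFinsupp.locallyFiniteSupport β).finite_inter_support_of_isCompact
        (π.isCompact_preimage (show IsAffineOpen V from hV).isCompact)
      refine (hsupp.image π).subset fun ξ hξ => ?_
      have h := hξ.2
      rw [Function.mem_support] at h
      split_ifs at h with he
      · exact ⟨eta hE hP ξ j, ⟨by show π (eta hE hP ξ j) ∈ V; rw [π_eta]; exact hξ.1, h⟩, π_eta hE hP ξ j⟩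
      · exact absurd rfl h
    let α : AlgebraicCycle X ℤ :=
      { toFun := fun ξ => if δ ξ = k + ((j : ℕ) : ℤ) then β (eta hE hP ξ j) else 0
        supportWithinDomain' := by simp
        supportLocallyFiniteWithinDomain' := hlf }
    have hα : α ∈ Cyc.Zk X δ (k + ((j : ℕ) : ℤ)) := fun ξ hξ => if_neg hξ
    obtain ⟨a, ha, hak⟩ := exists_pullback hE hP hdP hc _ α hα
    obtain ⟨b₀, hb₀, -⟩ := exists_pow_cycles hdP hinv a hak (u₀ hE hP) hu
      (fun i => Cyc.c1PowFun δP O1 (u₀ hE hP) i ⇑a) rfl (fun _ => rfl) j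
    rw [ha] at hb₀
    have hb₀k := hvanish α j b₀ hα hb₀
    obtain ⟨α', b', hα', hb', hrel⟩ := ih (β - R - b₀)
      (fun y hy => by show β y - R y - b₀ y = 0; rw [hβ y hy, hRk y hy, hb₀k y hy]; ring)
      (fun y hy => by
        by_contra hlt
        apply hy
        show β y - R y - b₀ y = 0
        have hyK : δP y = k + m := by
          by_contra hne
          exact hy (by show β y - R y - b₀ y = 0; rw [hβ y hne, hRk y hne, hb₀k y hne]; ring)
        have hle : meas hE hP δ δP y ≤ N := by omega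
        rw [hR y hyK hle]
        obtain ⟨hsupp, hval⟩ := iterate_flagSecs hE hP hdP hc hdf _ α hα
          (fun i => Cyc.c1PowFun δP O1 (u₀ hE hP) i (Cyc.pullFun π δP δ (m : ℤ) ⇑α)) rfl (fun _ => rfl) j j.2
        have hb : b₀ y = if y = eta hE hP (π y) j then β y else 0 := by
          rw [hb₀]
          by_cases hd : δ (π y) = k + ((j : ℕ) : ℤ)
          · refine (hval y hd).trans ?_
            by_cases e : y = eta hE hP (π y) ⟨(j : ℕ), j.2⟩
            · rw [if_pos e, if_pos e]
              show (if _ then _ else _) = _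
              rw [if_pos hd]
              exact congrArg β e.symm
            · rw [if_neg e, if_neg e]
          · have h0 : Cyc.c1PowFun δP O1 (u₀ hE hP) j (Cyc.pullFun π δP δ (m : ℤ) ⇑α) y = 0 := by
              by_contra hne
              obtain ⟨ζ, hζ, hsp⟩ := hsupp y hne
              have hζk : δ ζ = k + ((j : ℕ) : ℤ) := by_contra fun h => hζ (hα ζ h)
              refine absurd hle (not_le.2 (meas_gt_of_lower hE hP hdf hyK hsp (fun e => hd (e ▸ hζk))
                (j := j) ?_))
              rw [hj, hζk]; ring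
            rw [h0]
            split_ifs with e
            · refine absurd ?_ hd
              have h1 := delta_eta hE hP hdP hc (π y) j
              rw [← e, hyK] at h1
              omega
            · rfl
        rw [hb]
        by_cases hm : meas hE hP δ δP y = N
        · by_cases e : y = eta hE hP (π y) j
          · have hsj : stratum hE hP y = j := by rw [e, stratum_eta]
            rw [if_pos e, if_neg (fun h => h.2 (by rw [hsj]; exact e))]
            ring
          · rw [if_neg e]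
            have hnf : y ≠ eta hE hP (π y) (stratum hE hP y) := fun e' => e (by
              have h1 := meas_eta hE hP hdP hc (π y) (stratum hE hP y)
              rw [← e', hm, hj] at h1
              have h2 : ((stratum hE hP y : ℕ) : ℤ) * m = ((j : ℕ) : ℤ) * m := by linarith
              by_cases hm0 : m = 0
              · subst hm0
                rw [show j = stratum hE hP y from Subsingleton.elim (α := Fin 1) _ _]
                exact e'
              · have h3 : ((stratum hE hP y : ℕ) : ℤ) = ((j : ℕ) : ℤ) :=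
                  mul_right_cancel₀ (by exact_mod_cast hm0) h2
                rw [show j = stratum hE hP y from Fin.ext (by exact_mod_cast h3.symm)]
                exact e')
            rw [if_pos ⟨hm, hnf⟩]
            ring
        · have hb0 : β y = 0 := by_contra fun h => hm (le_antisymm hle (hN y h))
          rw [hb0, ite_self, ite_self]
          ring)
    refine ⟨Function.update α' j (α' j + α), Function.update b' j (b' j + b₀), fun i => ?_, fun i => ?_, ?_⟩
    · by_cases hi : i = j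
      · subst hi
        rw [Function.update_self]
        intro x hx
        show α' i x + α x = 0
        rw [hα' i x hx, hα x hx, add_zero]
      · rw [Function.update_of_ne hi]; exact hα' i
    · by_cases hi : i = j
      · subst hi
        rw [Function.update_self, Function.update_self]
        obtain ⟨a', ha', hak'⟩ := exists_pullback hE hP hdP hc _ (α' i) (hα' i)
        obtain ⟨n', hn'⟩ : ∃ n' : AlgebraicCycle P ℤ, n' = -a := ⟨_, rfl⟩
        have hn'k : n' ∈ Cyc.Zk P δP (k + ((i : ℕ) : ℤ) + m) := fun x hx => by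
          rw [hn']; show -a x = 0; rw [hak x hx, neg_zero]
        have h1 : Cyc.pullFun π δP δ (m : ℤ) ⇑(α' i + α) = ⇑a' - ⇑n' := by
          rw [ha', hn']
          funext x
          show _ = Cyc.pullFun π δP δ (m : ℤ) ⇑(α' i) x - -a x
          rw [sub_neg_eq_add, ha]
          simp only [Cyc.pullFun]
          split_ifs
          · exact add_mul _ _ _
          · exact (add_zero (0 : ℤ)).symm
        have h2 : Cyc.c1PowFun δP O1 (u₀ hE hP) i ⇑n' = -⇑b₀ := by
          have h3 := c1PowFun_const_mul (δ := δP) (L := O1) (u₀ hE hP) (-1) ⇑a (i : ℕ)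
          rw [hn', show (⇑(-a) : P → ℤ) = fun x => (-1 : ℤ) * a x from funext fun x => by
            show -a x = _; ring, h3, hb₀, ← ha]
          funext x
          exact neg_one_mul _
        rw [h1, c1PowFun_sub hdP hinv a' n' hak' hn'k _ hu, h2, ha', ← hb' i, sub_neg_eq_add]
        rfl
      · rw [Function.update_of_ne hi, Function.update_of_ne hi]; exact hb' i
    · have hsum : ∑ i, Function.update b' j (b' j + b₀) i = ∑ i, b' i + b₀ := by
        rw [Finset.sum_update_of_mem (Finset.mem_univ j), ← Finset.add_sum_erase _ _ (Finset.mem_univ j),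
          Finset.sdiff_singleton_eq_erase]
        abel
      rw [hsum]
      unfold Cyc.RatEquiv at hrel ⊢
      exact ratEquivZero_add hrel hR0 fun y => by
        show β y - ((∑ i, b' i) y + b₀ y) = β y - R y - b₀ y - (∑ i, b' i) y + R y
        ring
  · obtain ⟨α', b', hα', hb', hrel⟩ := ih (β - R)
      (fun y hy => by show β y - R y = 0; rw [hβ y hy, hRk y hy]; ring)
      (fun y hy => by
        by_contra hlt
        have hyK : δP y = k + m := by
          by_contra hne
          exact hy (by show β y - R y = 0; rw [hβ y hne, hRk y hne]; ring)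
        have hle : meas hE hP δ δP y ≤ N := by omega
        apply hy
        show β y - R y = 0
        rw [hR y hyK hle]
        split_ifs with hcase
        · ring
        · rw [sub_zero]
          by_contra hne
          have hm := le_antisymm hle (hN y hne)
          have e : y = eta hE hP (π y) (stratum hE hP y) := by_contra fun h => hcase ⟨hm, h⟩
          refine hflag ⟨stratum hE hP y, ?_⟩
          rw [← hm]
          conv_lhs => rw [e]
          exact meas_eta hE hP hdP hc _ _)
    refine ⟨α', b', hα', hb', ?_⟩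
    unfold Cyc.RatEquiv at hrel ⊢
    exact ratEquivZero_add hrel hR0 fun y => by
      show β y - (∑ i, b' i) y = β y - R y - (∑ i, b' i) y + R y
      ring

include hdf hdP hc in
theorem inSpan_all (k : ℤ) : ∀ β : AlgebraicCycle P ℤ, β ∈ Cyc.Zk P δP (k + m) → InSpan hE hP δ δP k β := by
  suffices H : ∀ (n : ℕ) (β : AlgebraicCycle P ℤ), β ∈ Cyc.Zk P δP (k + m) →
      (∀ y, β y ≠ 0 → ((m : ℤ) + 1) * (m + 1) - n ≤ meas hE hP δ δP y) → InSpan hE hP δ δP k β from
    fun β hβ => H ((m + 1) * (m + 1)) β hβ fun y _ => by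
      push_cast
      have := meas_nonneg hE hP hc (δ := δ) y
      omega
  intro n
  induction n with
  | zero =>
    intro β hβ h
    have hz : β = 0 := DFunLike.ext _ _ fun y => by
      by_contra hne
      have := h y hne
      have := meas_lt hE hP hdP hc y
      push_cast at *
      omega
    have hz0 : ∀ n, Cyc.c1PowFun δP O1 (u₀ hE hP) n (Cyc.pullFun π δP δ (m : ℤ) ⇑(0 : AlgebraicCycle X ℤ)) = 0 :=
      fun n => by
        rw [show Cyc.pullFun π δP δ (m : ℤ) ⇑(0 : AlgebraicCycle X ℤ) = 0 from funext fun x => by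
          simp only [Cyc.pullFun]
          split_ifs
          · exact zero_mul _
          · rfl]
        exact c1PowFun_zero _ n
    refine ⟨fun _ => 0, fun _ => 0, fun i x _ => rfl, fun i => (hz0 i).symm, ?_⟩
    rw [hz, Cyc.RatEquiv, sub_eq_add_neg, Finset.sum_const_zero, neg_zero, add_zero]
    exact P1Inter.ratEquivZero_zero
  | succ n ih =>
    intro β hβ h
    exact inSpan_step hE hP hdf hdP hc β hβ _ h fun β' hβ' h' => ih β' hβ' fun y hy => by
      have := h' y hy
      push_cast at *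
      omega

include hdf hdP hc hE hP in
/-- Spanning, for any nonzero sections. -/
theorem classes_span (k : ℤ) (t : Fin (m + 1) → ℕ → (ξ : P) → Cyc.secFibre O1 ξ) (ht : ∀ i j ξ, t i j ξ ≠ 0)
    (β : AlgebraicCycle P ℤ) (hβ : β ∈ Cyc.Zk P δP (k + m)) :
    ∃ (α : Fin (m + 1) → AlgebraicCycle X ℤ) (β' : AlgebraicCycle P ℤ),
      (∀ i : Fin (m + 1), α i ∈ Cyc.Zk X δ (k + ((i : ℕ) : ℤ))) ∧
      (∀ x, β' x = ∑ i : Fin (m + 1), Cyc.c1PowFun δP O1 (t i) i (Cyc.pullFun π δP δ (m : ℤ) ⇑(α i)) x) ∧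
      Cyc.RatEquiv δP (k + m) β β' := by
  obtain ⟨α, b, hα, hb, hrel⟩ := inSpan_all hE hP hdf hdP hc k β hβ
  have hinv := isInvertible_of_rankOne hP.invertible
  choose a ha hak using fun i => exists_pullback hE hP hdP hc _ (α i) (hα i)
  choose b' hb' _ using fun i : Fin (m + 1) => exists_pow_cycles hdP hinv (a i) (hak i) (t i) (ht i)
    (fun j => Cyc.c1PowFun δP O1 (t i) j ⇑(a i)) rfl (fun _ => rfl) i
  refine ⟨α, ∑ i, b' i, hα, fun x => ?_, ratEquiv_trans hrel ?_⟩
  · rw [cycle_coe_sum, Finset.sum_apply]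
    exact Finset.sum_congr rfl fun i _ => by rw [hb', ha]
  · rw [Cyc.RatEquiv, ← Finset.sum_sub_distrib]
    refine ratEquivZero_sum _ _ fun i _ => ?_
    have h := pow_congr hdP hinv (hak i) (hak i) (ratEquiv_refl _) (flagSecs_ne_zero hE hP) (ht i)
      (γ := fun j => Cyc.c1PowFun δP O1 (u₀ hE hP) j ⇑(a i)) rfl (fun _ => rfl)
      (γ' := fun j => Cyc.c1PowFun δP O1 (t i) j ⇑(a i)) rfl (fun _ => rfl) i (b i) (b' i)
      (by rw [hb, ha]) (hb' i)
    rwa [show k + ((i : ℕ) : ℤ) + (m : ℤ) - ((i : ℕ) : ℤ) = k + m by ring] at h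

end Groth.Agent.CycLib28.PB.Span
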