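import Groth.Agent.CycLib28.PB.Span.Stalk
import Groth.Agent.CycLib28.Graph
import Groth.Agent.CycLib28.FlatRat
import Groth.Agent.CycLib28.PushAny
import Groth.Agent.CycLib28.RatAdd
import Groth.Agent.CycLib28.P1Inter
import Groth.Agent.CycLib28.DegZero
import Groth.Agent.CycLib28.RelDim
import Groth.Agent.CycLib28.PB.Indep

/-!
# Non-generic points of affine space are rationally equivalent to zero
-/

set_option autoImplicit false
set_option linter.style.haveILetI false
set_option backward.isDefEq.respectTransparency.types false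

universe u

open AlgebraicGeometry CategoryTheory IsLocalRing Polynomial Groth.Agent.CycLim28

namespace Groth.Agent.CycLib28.PB.Span

open Groth.Agent

section single

variable {X : Scheme.{u}}

/-- The cycle of a point. -/
noncomputable def pt (x : X) : AlgebraicCycle X ℤ :=
  open scoped Classical in Function.locallyFinsuppWithin.single x 1

open scoped Classical in
theorem pt_apply (x y : X) : pt x y = if y = x then 1 else 0 := by
  unfold pt
  by_cases h : y = x <;> simp [h]

variable [IsLocallyNoetherian X] {δ : X → ℤ}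

theorem ratEquivZero_zsmul (hδ : Cyc.IsDimFun X δ) {k : ℤ} {α β : AlgebraicCycle X ℤ}
    (h : Cyc.RatEquivZero δ k α) (n : ℤ) (hβ : ∀ x, β x = n * α x) : Cyc.RatEquivZero δ k β := by
  rw [show β = n • α from DFunLike.ext _ _ fun x => hβ x]
  clear hβ
  induction n using Int.induction_on with
  | zero => rw [zero_smul]; exact P1Inter.ratEquivZero_zero
  | succ n ih => exact ratEquivZero_add ih h fun x => by rw [add_smul, one_smul]; rfl
  | pred n ih =>
    exact ratEquivZero_add ih (ratEquivZero_neg hδ h (β := -α) fun x => rfl) fun x => by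
      rw [sub_smul, one_smul, sub_eq_add_neg]; rfl

/-- A principal divisor is rationally equivalent to zero. -/
theorem ratEquivZero_divCycle {k : ℤ} (ξ : X) (hξ : δ ξ = k + 1) (g : X.residueField ξ) (hg : g ≠ 0)
    (D : AlgebraicCycle X ℤ) (hD : ⇑D = Cyc.divFun δ ξ g) : Cyc.RatEquivZero δ k D :=
  ⟨PUnit.{u + 1}, fun _ => ξ, fun _ => g, fun _ => hξ, fun _ => hg,
    fun _ => ⟨Set.univ, isOpen_univ, trivial, Set.toFinite _⟩, fun x => by rw [hD, finsum_unique]⟩

end single

variable {K : Type u} [Field K]

/-- The structure morphism of an affine scheme over a field. -/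
noncomputable def str (K : Type u) [Field K] (B : Type u) [CommRing B] [Algebra K B] :
    Spec (CommRingCat.of B) ⟶ Spec (CommRingCat.of K) :=
  Spec.map (CommRingCat.ofHom (algebraMap K B))

/-- The dimension of the closure of a point. -/
noncomputable abbrev pd (K : Type u) [Field K] {B : Type u} [CommRing B] [Algebra K B]
    (x : ↥(Spec (CommRingCat.of B))) : ℤ :=
  (DimLib.ptDim (str K B) x : ℤ)

instance locallyOfFiniteType_str {B : Type u} [CommRing B] [Algebra K B] [Algebra.FiniteType K B] :
    LocallyOfFiniteType (str K B) := by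
  rw [str, HasRingHomProperty.Spec_iff (P := @LocallyOfFiniteType)]
  exact RingHom.finiteType_algebraMap.2 inferInstance

variable (K) in
/-- Every non-generic point is rationally equivalent to zero. -/
def Good (B : Type u) [CommRing B] [Algebra K B] : Prop :=
  ∀ x : ↥(Spec (CommRingCat.of B)), x.asIdeal ≠ ⊥ → Cyc.RatEquivZero (pd K) (pd K x) (pt x)

theorem good_self : Good K K := fun x hx =>
  absurd ((Ideal.eq_bot_or_top x.asIdeal).resolve_right x.isPrime.ne_top) hx

theorem good_of_equiv {B B' : Type u} [CommRing B] [Algebra K B] [Algebra.FiniteType K B] [CommRing B']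
    [Algebra K B'] [Algebra.FiniteType K B'] (e : B ≃ₐ[K] B') (h : Good K B) : Good K B' := by
  haveI : IsNoetherianRing B := Algebra.FiniteType.isNoetherianRing K B
  haveI : IsNoetherianRing B' := Algebra.FiniteType.isNoetherianRing K B'
  intro x hx
  let g : Spec (CommRingCat.of B) ≅ Spec (CommRingCat.of B') :=
    Scheme.Spec.mapIso (e.symm.toRingEquiv.toCommRingCatIso.op)
  obtain ⟨y, rfl⟩ := g.hom.homeomorph.surjective x
  have hy : y.asIdeal ≠ ⊥ := fun h0 => hx (by
    show (g.hom y).asIdeal = ⊥
    rw [show (g.hom y).asIdeal = y.asIdeal.comap e.symm.toRingEquiv.toRingHom from rfl, h0]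
    exact Ideal.comap_bot_of_injective _ e.symm.injective)
  have hw : g.hom ≫ str K B' = str K B := by
    show Spec.map _ ≫ Spec.map _ = Spec.map _
    rw [← Spec.map_comp]
    exact congrArg Spec.map (CommRingCat.hom_ext (RingHom.ext fun a => e.symm.commutes a))
  have hd : Cyc.DeltaCompat g.hom (pd K (B := B)) (pd K (B := B')) := deltaCompat_ptDim g.hom (str K B') (str K B) hw
  have hpd : pd K (g.hom y) = pd K y := by
    show (DimLib.ptDim (str K B') (g.hom y) : ℤ) = DimLib.ptDim (str K B) y
    obtain ⟨n, hn, hd'⟩ := hd y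
    obtain ⟨n', hn', hd''⟩ := deltaCompat_preimmersion g.hom (pd K (B := B')) y
    have e1 : n = n' := by exact_mod_cast hn.symm.trans hn'
    simp only [pd] at hd' hd''
    omega
  have hmap := map_ratEquivZero (isDimFun_ptDim (str K B)) (isDimFun_ptDim (str K B')) g.hom hd _ _ (h y hy)
  rw [← hpd] at hmap
  suffices e : pt (g.hom y) = AlgebraicCycle.map g.hom (pd K (B := B)) (pd K (B := B')) (pt y) by
    show Cyc.RatEquivZero (pd K) (pd K (g.hom y)) (pt (g.hom y))
    rw [e]; exact hmap
  refine DFunLike.ext _ _ fun z => ?_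
  classical
  obtain ⟨z', rfl⟩ := g.hom.homeomorph.surjective z
  have hcoeff := map_apply_finset g.hom (pd K (B := B)) (pd K (B := B')) (pt y) (g.hom z') {z'}
    (fun a ha => by rw [Finset.mem_singleton.1 ha]) (fun a ha _ => Finset.mem_singleton.2 (g.hom.homeomorph.injective ha))
  show pt (g.hom y) (g.hom z') = AlgebraicCycle.map g.hom (pd K (B := B)) (pd K (B := B')) (pt y) (g.hom z')
  rw [hcoeff, Finset.sum_singleton, pt_apply, pt_apply]
  by_cases hzy : z' = y
  · subst hzy
    rw [if_pos rfl, if_pos rfl, AlgebraicCycle.mapCoeff, if_pos hpd.symm, residueDegree_preimmersion]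
    simp
  · rw [if_neg (show ¬g.hom z' = g.hom y from fun e' => hzy (g.hom.homeomorph.injective e')), if_neg hzy, zero_mul]

section step

variable {B : Type u} [CommRing B] [Algebra K B]

/-- The projection of the affine line. -/
noncomputable def proj (B : Type u) [CommRing B] : Spec (CommRingCat.of B[X]) ⟶ Spec (CommRingCat.of B) :=
  Spec.map (CommRingCat.ofHom C)

instance flat_proj : Flat (proj B) := by
  rw [proj, HasRingHomProperty.Spec_iff (P := @Flat)]
  show (algebraMap B B[X]).Flat
  rw [RingHom.flat_algebraMap_iff]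
  infer_instance

theorem proj_asIdeal (P : ↥(Spec (CommRingCat.of B[X]))) : (proj B P).asIdeal = P.asIdeal.comap C := rfl

/-- The generic point of a fibre of the affine line. -/
noncomputable def gen (p : ↥(Spec (CommRingCat.of B))) : ↥(Spec (CommRingCat.of B[X])) :=
  ⟨p.asIdeal.map C, Ideal.isPrime_map_C_of_isPrime (P := p.asIdeal)⟩

theorem mem_gen {p : ↥(Spec (CommRingCat.of B))} {f : B[X]} : f ∈ (gen p).asIdeal ↔ ∀ n, f.coeff n ∈ p.asIdeal :=
  Ideal.mem_map_C_iff

theorem proj_gen (p : ↥(Spec (CommRingCat.of B))) : proj B (gen p) = p :=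
  PrimeSpectrum.ext (Ideal.ext fun b => ⟨fun h => by simpa using mem_gen.1 h 0, fun h => mem_gen.2 fun n => by
    show (C b).coeff n ∈ p.asIdeal
    rw [coeff_C]; split_ifs
    · exact h
    · exact p.asIdeal.zero_mem⟩)

theorem gen_specializes {p : ↥(Spec (CommRingCat.of B))} {P : ↥(Spec (CommRingCat.of B[X]))}
    (h : proj B P = p) : gen p ⤳ P := by
  subst h
  exact specializes_iff.2 (Ideal.map_comap_le)

variable [IsDomain B] [Algebra.FiniteType K B]

theorem pd_proj : Cyc.DeltaCompat (proj B) (pd K (B := B[X])) (pd K (B := B)) := by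
  refine deltaCompat_ptDim (proj B) (str K B) (str K B[X]) ?_
  show Spec.map _ ≫ Spec.map _ = Spec.map _
  rw [← Spec.map_comp]
  rfl

theorem pd_gen (p : ↥(Spec (CommRingCat.of B))) : pd K (gen p) = pd K p + 1 := by
  haveI : IsNoetherianRing B := Algebra.FiniteType.isNoetherianRing K B
  -- the zero section
  let s : Spec (CommRingCat.of B) ⟶ Spec (CommRingCat.of B[X]) := Spec.map (CommRingCat.ofHom (evalRingHom 0))
  haveI : IsClosedImmersion s := IsClosedImmersion.spec_of_surjective _ fun b => ⟨C b, eval_C⟩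
  have hs : Cyc.DeltaCompat s (pd K (B := B)) (pd K (B := B[X])) := by
    refine deltaCompat_ptDim s (str K B[X]) (str K B) ?_
    show Spec.map _ ≫ Spec.map _ = Spec.map _
    rw [← Spec.map_comp]
    exact congrArg Spec.map (CommRingCat.hom_ext (RingHom.ext fun a => eval_C))
  have e0 : pd K (s p) = pd K p := by
    obtain ⟨n, hn, hd⟩ := hs p
    obtain ⟨n', hn', hd'⟩ := deltaCompat_preimmersion s (pd K (B := B[X])) p
    have : n = n' := by exact_mod_cast hn.symm.trans hn'
    subst this
    simp only at hd'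
    omega
  have hps : proj B (s p) = p := PrimeSpectrum.ext (Ideal.ext fun b => by
    show (evalRingHom 0) (C b) ∈ p.asIdeal ↔ b ∈ p.asIdeal
    rw [coe_evalRingHom, eval_C])
  have hmem : ∀ f : B[X], f ∈ (s p).asIdeal ↔ f.coeff 0 ∈ p.asIdeal := fun f => by
    show eval 0 f ∈ p.asIdeal ↔ _
    rw [coeff_zero_eq_eval_zero]
  have h1 : gen p ⤳ s p := gen_specializes hps
  have hne : gen p ≠ s p := fun e => p.isPrime.ne_top (p.asIdeal.eq_top_iff_one.2 (by
    have hX : (X : B[X]) ∈ (gen p).asIdeal := by rw [e, hmem]; simp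
    simpa using mem_gen.1 hX 1))
  rw [← e0]
  refine (isDimFun_ptDim (str K B[X]) (gen p) (s p) h1 hne).2 fun z hz1 hz2 => ?_
  have hzp : ∀ b : B, C b ∈ z.asIdeal → b ∈ p.asIdeal := fun b hb => by
    have := (hmem _).1 (specializes_iff.1 hz2 hb)
    simpa using this
  by_cases hX : (X : B[X]) ∈ z.asIdeal
  · refine Or.inr (PrimeSpectrum.ext (le_antisymm (specializes_iff.1 hz2) fun f hf => ?_))
    rw [← X_mul_divX_add f]
    exact z.asIdeal.add_mem (z.asIdeal.mul_mem_right _ hX)
      (specializes_iff.1 hz1 (Ideal.mem_map_of_mem C ((hmem f).1 hf)))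
  · refine Or.inl (PrimeSpectrum.ext (le_antisymm (fun f hf => ?_) (specializes_iff.1 hz1)))
    refine mem_gen.2 fun n => ?_
    induction n generalizing f with
    | zero => exact (hmem f).1 (specializes_iff.1 hz2 hf)
    | succ n ih =>
      have hc : C (f.coeff 0) ∈ z.asIdeal := specializes_iff.1 hz1 (Ideal.mem_map_of_mem C
        ((hmem f).1 (specializes_iff.1 hz2 hf)))
      have hd : X * f.divX ∈ z.asIdeal := by
        have := z.asIdeal.sub_mem hf hc
        rwa [show f - C (f.coeff 0) = X * f.divX from sub_eq_of_eq_add (X_mul_divX_add f).symm] at this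
      have := ih _ ((z.isPrime.mem_or_mem hd).resolve_left hX)
      rwa [coeff_divX] at this

theorem delta_genInFibre_proj (x : ↥(Spec (CommRingCat.of B[X]))) (hx : GenInFibre (proj B) x) :
    pd K x = pd K (proj B x) + 1 := by
  have e : gen (proj B x) = x := hx _ (proj_gen _) (gen_specializes rfl)
  conv_lhs => rw [← e]
  exact pd_gen _

theorem pd_le (P : ↥(Spec (CommRingCat.of B[X]))) : pd K P ≤ pd K (proj B P) + 1 := by
  haveI : IsNoetherianRing B := Algebra.FiniteType.isNoetherianRing K B
  rw [← pd_gen]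
  exact le_of_specializes (isDimFun_ptDim (str K B[X])) (gen_specializes rfl)

theorem eq_gen_of_pd {P : ↥(Spec (CommRingCat.of B[X]))} (h : pd K P = pd K (proj B P) + 1) :
    P = gen (proj B P) := by
  haveI : IsNoetherianRing B := Algebra.FiniteType.isNoetherianRing K B
  refine (eq_of_specializes_of_le (isDimFun_ptDim (str K B[X])) (gen_specializes rfl) ?_).symm
  show pd K (gen (proj B P)) ≤ pd K P
  rw [pd_gen, h]

theorem good_pull (hB : Good K B) {p : ↥(Spec (CommRingCat.of B))} (hp : p.asIdeal ≠ ⊥) :
    Cyc.RatEquivZero (pd K (B := B[X])) (pd K p + 1) (pt (gen p)) := by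
  haveI : IsNoetherianRing B := Algebra.FiniteType.isNoetherianRing K B
  classical
  refine pullFun_ratEquivZero (proj B) (isDimFun_ptDim (str K B[X])) (isDimFun_ptDim (str K B)) 1
    delta_genInFibre_proj _ (pt p) (hB p hp) (pt (gen p)) (funext fun P => ?_)
  show pt (gen p) P = _
  rw [pt_apply, Cyc.pullFun]
  by_cases hP : P = gen p
  · subst hP
    rw [if_pos rfl]
    refine Eq.trans ?_ (if_pos (show pd K (gen p) = pd K (proj B (gen p)) + 1 by rw [proj_gen, pd_gen])).symm
    rw [pt_apply, if_pos (proj_gen p), one_mul]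
    have hlen : Module.length ((Spec (CommRingCat.of B[X])).presheaf.stalk (gen p))
        ((Spec (CommRingCat.of B[X])).presheaf.stalk (gen p) ⧸ Ideal.map ((proj B).stalkMap (gen p)).hom
        (maximalIdeal _)) = 1 := by
      refine length_quot_maximalIdeal _ _ (le_antisymm ?_ ?_)
      · exact Ideal.map_le_iff_le_comap.2 (IsLocalRing.maximalIdeal_comap ((proj B).stalkMap (gen p)).hom).ge
      · refine maximalIdeal_le _ _ fun a ha => ?_
        have hle : Ideal.map C p.asIdeal ≤ Ideal.comap (toSt (gen p))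
            (Ideal.map ((proj B).stalkMap (gen p)).hom
              (maximalIdeal ((Spec (CommRingCat.of B)).presheaf.stalk (proj B (gen p))))) := by
          refine Ideal.map_le_iff_le_comap.2 fun b hb => ?_
          show toSt (gen p) (C b) ∈ Ideal.map ((proj B).stalkMap (gen p)).hom
            (maximalIdeal ((Spec (CommRingCat.of B)).presheaf.stalk (proj B (gen p))))
          have hb' : b ∈ (proj B (gen p)).asIdeal := by rw [proj_gen]; exact hb
          rw [show toSt (gen p) (C b) = ((proj B).stalkMap (gen p)).hom (toSt (proj B (gen p)) b) from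
            (AlgebraicGeometry.stalkMap_toStalk_apply (CommRingCat.ofHom (C : B →+* B[X])) (gen p) b).symm]
          exact Ideal.mem_map_of_mem _ (toSt_mem_maximalIdeal _ hb')
        exact hle ha
    rw [hlen]
    simp
  · rw [if_neg hP]
    split_ifs with h
    · rw [pt_apply, if_neg fun e => hP ?_, zero_mul]
      rw [eq_gen_of_pd h, e]
    · rfl

theorem good_step (hB : Good K B) : Good K B[X] := by
  haveI : IsNoetherianRing B := Algebra.FiniteType.isNoetherianRing K B
  classical
  intro P hP
  have hdR := isDimFun_ptDim (str K B[X])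
  obtain ⟨p, hp⟩ : ∃ p, p = proj B P := ⟨_, rfl⟩
  by_cases hPp : P = gen p
  · subst hPp
    have hne : p.asIdeal ≠ ⊥ := fun h => hP (by
      show p.asIdeal.map C = ⊥
      rw [h, Ideal.map_bot])
    rw [pd_gen]
    exact good_pull hB hne
  have hgP : gen p ⤳ P := gen_specializes hp.symm
  have hmemp : ∀ b : B, C b ∈ P.asIdeal ↔ b ∈ p.asIdeal := fun b => by rw [hp]; rfl
  -- the dimension of the point
  have hdP : pd K P + 1 = pd K (gen p) := by
    have h1 : pd K P ≤ pd K (gen p) := le_of_specializes hdR hgP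
    have h2 : pd K P ≠ pd K (gen p) := fun e => hPp (eq_of_specializes_of_le hdR hgP e.ge).symm
    have h3 : pd K p ≤ pd K P := hp ▸ delta_le' (proj B) pd_proj P
    rw [pd_gen] at h1 h2 ⊢
    omega
  -- a polynomial generating the prime in the fibre
  have hex : ∃ n : ℕ, ∃ f : B[X], f ∈ P.asIdeal ∧ f.leadingCoeff ∉ p.asIdeal ∧ f.natDegree = n := by
    obtain ⟨f, hf, hf'⟩ : ∃ f ∈ P.asIdeal, f ∉ (gen p).asIdeal := by
      by_contra! h
      exact hPp (PrimeSpectrum.ext (le_antisymm h (specializes_iff.1 hgP)))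
    -- drop the top coefficients lying in `p`
    suffices H : ∀ (m : ℕ) (f : B[X]), f.natDegree ≤ m → f ∈ P.asIdeal → f ∉ (gen p).asIdeal →
        ∃ n : ℕ, ∃ f : B[X], f ∈ P.asIdeal ∧ f.leadingCoeff ∉ p.asIdeal ∧ f.natDegree = n from
      H _ f le_rfl hf hf'
    intro m
    induction m with
    | zero =>
      intro f hm hf hf'
      refine ⟨_, f, hf, fun hl => hf' ?_, rfl⟩
      rw [eq_C_of_natDegree_le_zero hm] at hl ⊢
      rw [leadingCoeff_C] at hl
      exact Ideal.mem_map_of_mem C hl
    | succ m ih =>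
      intro f hm hf hf'
      by_cases hl : f.leadingCoeff ∈ p.asIdeal
      · have hmem : C f.leadingCoeff * X ^ f.natDegree ∈ (gen p).asIdeal :=
          Ideal.mul_mem_right _ _ (Ideal.mem_map_of_mem C hl)
        refine ih f.eraseLead (f.eraseLead_natDegree_le.trans (by omega)) ?_ fun h => hf' ?_
        · rw [← self_sub_C_mul_X_pow f]
          exact P.asIdeal.sub_mem hf (specializes_iff.1 hgP hmem)
        · rw [← eraseLead_add_C_mul_X_pow f]
          exact Ideal.add_mem _ h hmem
      · exact ⟨_, f, hf, hl, rfl⟩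
  obtain ⟨f, hf, hlc, hdeg⟩ := Nat.find_spec hex
  have hfgen : f ∉ (gen p).asIdeal := fun h => hlc (mem_gen.1 h _)
  have hpseudo : ∀ a ∈ P.asIdeal, ∃ (N : ℕ) (h : B[X]), C f.leadingCoeff ^ N * a - f * h ∈ (gen p).asIdeal := by
    intro a ha
    suffices H : ∀ (m : ℕ) (a : B[X]), a.natDegree ≤ m → a ∈ P.asIdeal →
        ∃ (N : ℕ) (h : B[X]), C f.leadingCoeff ^ N * a - f * h ∈ (gen p).asIdeal from H _ a le_rfl ha
    intro m
    induction m using Nat.strong_induction_on with
    | _ m ih =>
      intro a hm ha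
      by_cases hg : a ∈ (gen p).asIdeal
      · exact ⟨0, 0, by simpa using hg⟩
      by_cases hl : a.leadingCoeff ∈ p.asIdeal
      · have hmem : C a.leadingCoeff * X ^ a.natDegree ∈ (gen p).asIdeal :=
          Ideal.mul_mem_right _ _ (Ideal.mem_map_of_mem C hl)
        have h0 : a.natDegree ≠ 0 := fun h => hg (by
          rw [eq_C_of_natDegree_eq_zero h] at hl ⊢
          rw [leadingCoeff_C] at hl
          exact Ideal.mem_map_of_mem C hl)
        obtain ⟨N, h, hNh⟩ := ih (a.natDegree - 1) (by omega) a.eraseLead a.eraseLead_natDegree_le (by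
          rw [← self_sub_C_mul_X_pow a]
          exact P.asIdeal.sub_mem ha (specializes_iff.1 hgP hmem))
        refine ⟨N, h, ?_⟩
        have := Ideal.add_mem _ hNh (Ideal.mul_mem_left _ (C f.leadingCoeff ^ N) hmem)
        convert this using 1
        conv_lhs => rw [← eraseLead_add_C_mul_X_pow a]
        ring
      have hle : f.natDegree ≤ a.natDegree := by
        by_contra hlt
        exact Nat.find_min hex (m := a.natDegree) (by omega) ⟨a, ha, hl, rfl⟩
      obtain ⟨a', ha'⟩ : ∃ a', a' = C f.leadingCoeff * a - C a.leadingCoeff * X ^ (a.natDegree - f.natDegree) * f :=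
        ⟨_, rfl⟩
      have ha'P : a' ∈ P.asIdeal := by
        rw [ha']; exact P.asIdeal.sub_mem (P.asIdeal.mul_mem_left _ ha) (P.asIdeal.mul_mem_left _ hf)
      by_cases h0 : a.natDegree = 0
      · -- then both are constants
        have hf0 : f.natDegree = 0 := by omega
        have e0 := eq_C_of_natDegree_eq_zero hf0
        rw [e0, leadingCoeff_C] at hlc
        exact absurd ((hmemp _).1 (e0 ▸ hf)) hlc
      have hdeg' : a'.natDegree ≤ a.natDegree - 1 := by
        rw [natDegree_le_iff_coeff_eq_zero]
        intro j hj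
        rw [ha', coeff_sub, coeff_C_mul, mul_assoc, coeff_C_mul, coeff_X_pow_mul', if_pos (by omega)]
        rcases eq_or_lt_of_le (show a.natDegree ≤ j by omega) with e | hlt
        · rw [← e, show a.natDegree - (a.natDegree - f.natDegree) = f.natDegree by omega, coeff_natDegree,
            coeff_natDegree, mul_comm, sub_self]
        · rw [coeff_eq_zero_of_natDegree_lt hlt, coeff_eq_zero_of_natDegree_lt (show f.natDegree < _ by omega),
            mul_zero, mul_zero, sub_self]
      obtain ⟨N, h, hNh⟩ := ih (a.natDegree - 1) (by omega) a' hdeg' ha'P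
      refine ⟨N + 1, h + C f.leadingCoeff ^ N * (C a.leadingCoeff * X ^ (a.natDegree - f.natDegree)), ?_⟩
      rw [ha'] at hNh
      convert hNh using 1
      ring
  obtain ⟨g, hg⟩ : ∃ g, g = toRes (gen p) f := ⟨_, rfl⟩
  have hg0 : g ≠ 0 := by rw [hg, Ne, toRes_eq_zero]; exact hfgen
  obtain ⟨D, hD⟩ := exists_divCycle hdR (gen p) g hg0
  have hk : pd K (gen p) = pd K P + 1 := hdP.symm
  have hD0 := ratEquivZero_divCycle (k := pd K P) (gen p) hk g hg0 D hD
  have hval : D P = 1 := by
    rw [hD, Cyc.divFun, dif_pos ⟨hgP, hdP⟩, hg, ← specMap_toSt hgP]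
    refine ordAt_eq_one hdR hgP hdP _ (toSt_mem_maximalIdeal P hf) (by rw [specMap_toSt, ← hg]; exact hg0)
      (maximalIdeal_le P _ fun a ha => ?_)
    obtain ⟨N, h, hNh⟩ := hpseudo a ha
    have hu : IsUnit (toSt P (C f.leadingCoeff ^ N)) := by
      rw [isUnit_toSt]
      exact fun hm => hlc ((hmemp _).1 (P.isPrime.mem_of_pow_mem N hm))
    refine (Ideal.unit_mul_mem_iff_mem _ hu).1 ?_
    rw [← map_mul, show C f.leadingCoeff ^ N * a = (C f.leadingCoeff ^ N * a - f * h) + f * h by ring, map_add]
    refine Ideal.add_mem _ (Ideal.mem_sup_left ?_) (Ideal.mem_sup_right ?_)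
    · rw [RingHom.mem_ker, specMap_toSt, toRes_eq_zero]; exact hNh
    · rw [map_mul]; exact Ideal.mul_mem_right _ _ (Ideal.mem_span_singleton_self _)
  -- the other points of the divisor
  have hrest : ∀ y, y ≠ P → D y ≠ 0 → y = gen (proj B y) ∧ (proj B y).asIdeal ≠ ⊥ ∧ pd K (proj B y) + 1 = pd K P := by
    intro y hyP hy
    rw [hD, Cyc.divFun] at hy
    split_ifs at hy with hh
    swap
    · exact absurd rfl hy
    obtain ⟨hsp, hd⟩ := hh
    have hpy : p ⤳ proj B y := by
      have := hsp.map (proj B).continuous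
      rwa [proj_gen] at this
    have hfy : f ∈ y.asIdeal := by
      by_contra hn
      refine hy ?_
      rw [hg, ← specMap_toSt hsp]
      exact ordAt_unit hdR hsp hd _ ((isUnit_toSt y f).2 hn)
    by_cases he : proj B y = p
    · exfalso
      have hmy : ∀ b : B, C b ∈ y.asIdeal ↔ b ∈ p.asIdeal := fun b => by rw [← he]; rfl
      have hle : P.asIdeal ≤ y.asIdeal := fun a ha => by
        obtain ⟨N, h, hNh⟩ := hpseudo a ha
        have hm : C f.leadingCoeff ^ N * a ∈ y.asIdeal := by
          have := y.asIdeal.add_mem (specializes_iff.1 hsp hNh) (y.asIdeal.mul_mem_right h hfy)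
          rwa [sub_add_cancel] at this
        exact (y.isPrime.mem_or_mem hm).resolve_left fun hm' =>
          hlc ((hmy _).1 (y.isPrime.mem_of_pow_mem N hm'))
      exact hyP (eq_of_specializes_of_le hdR (specializes_iff.2 hle) (by simp only [pd] at *; omega)).symm
    · have h1 : pd K (proj B y) < pd K p := (isDimFun_ptDim (str K B) p _ hpy (Ne.symm he)).1
      have h2 := pd_le (K := K) y
      have h3 := pd_gen (K := K) p
      refine ⟨eq_gen_of_pd (K := K) (by simp only [pd] at *; omega), fun h0 => he ?_, by simp only [pd] at *; omega⟩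
      refine PrimeSpectrum.ext (le_antisymm ?_ (specializes_iff.1 hpy))
      rw [h0]; exact bot_le
  set S := (finite_support_of_compact D).toFinset.erase P with hS
  have hsum : Cyc.RatEquivZero (pd K (B := B[X])) (pd K P) (∑ y ∈ S, D y • pt y) := by
    refine ratEquivZero_sum _ _ fun y hy => ?_
    rw [hS, Finset.mem_erase, Set.Finite.mem_toFinset] at hy
    obtain ⟨hyg, hne, hd⟩ := hrest y hy.1 hy.2
    refine ratEquivZero_zsmul hdR ?_ (D y) fun x => rfl
    rw [hyg, ← hd]
    exact good_pull hB hne
  refine ratEquivZero_add hD0 (ratEquivZero_neg hdR hsum (β := -∑ y ∈ S, D y • pt y) fun x => rfl) fun x => ?_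
  show pt P x = D x + -((∑ y ∈ S, D y • pt y) x)
  rw [cycle_coe_sum, Finset.sum_apply]
  have e : ∀ y, (D y • pt y) x = if x = y then D y else 0 := fun y => by
    show D y * pt y x = _
    rw [pt_apply]; split_ifs <;> simp
  rw [Finset.sum_congr rfl fun y _ => e y, Finset.sum_ite_eq, pt_apply]
  by_cases hxP : x = P
  · subst hxP
    rw [if_pos rfl, hval, if_neg (by simp [hS])]
    rfl
  · rw [if_neg hxP]
    by_cases hx : x ∈ S
    · rw [if_pos hx]; ring
    · rw [if_neg hx]
      have : D x = 0 := by_contra fun h => hx (by simp [hS, hxP, h])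
      rw [this]; rfl
where
  finite_support_of_compact (D : AlgebraicCycle (Spec (CommRingCat.of B[X])) ℤ) : (Function.support ⇑D).Finite := by
    have := (Function.locallyFinsupp.locallyFiniteSupport D).finite_inter_support_of_isCompact isCompact_univ
    rwa [Set.univ_inter] at this

end step

theorem good_mvPolynomial (K : Type u) [Field K] : ∀ n : ℕ, Good K (MvPolynomial (Fin n) K)
  | 0 => good_of_equiv (MvPolynomial.isEmptyAlgEquiv K (Fin 0)).symm good_self
  | n + 1 =>
    good_of_equiv ((MvPolynomial.finSuccEquiv K n).restrictScalars K).symm (good_step (good_mvPolynomial K n))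

end Groth.Agent.CycLib28.PB.Span
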