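import Groth.Agent.CycLib28.PB.Span.Affine
import Groth.Agent.CycLib28.PB.Bundle
import Groth.Agent.CycLib28.PushZero

/-!
# The strata of the fibres of a projective bundle are affine spaces
-/

set_option autoImplicit false
set_option linter.unusedSectionVars false
set_option linter.style.haveILetI false
set_option backward.isDefEq.respectTransparency.types false
set_option synthInstance.maxHeartbeats 400000

universe u

open AlgebraicGeometry CategoryTheory Groth.Agent.CycLim28
open Groth.Agent.KRRPBLib Groth.Agent.Coherent Groth.Agent.PicLib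

namespace Groth.Agent.CycLib28.PB.Span

open Groth.Agent

/-- Dimension functions differ by a constant along specialisations. -/
theorem dimFun_diff {X : Scheme.{u}} {δ δ' : X → ℤ} (h : Cyc.IsDimFun X δ) (h' : Cyc.IsDimFun X δ') {a b : X}
    (hab : a ⤳ b) : δ a - δ b = δ' a - δ' b := by
  suffices H : ∀ (n : ℕ) (a b : X), a ⤳ b → δ a - δ b ≤ n → δ a - δ b = δ' a - δ' b from
    H (δ a - δ b).toNat a b hab (Int.self_le_toNat _)
  intro n
  induction n using Nat.strong_induction_on with
  | _ n ih =>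
    intro a b hab hn
    by_cases e : a = b
    · subst e; simp
    by_cases him : ∀ z : X, a ⤳ z → z ⤳ b → z = a ∨ z = b
    · rw [(h a b hab e).2 him, (h' a b hab e).2 him]; ring
    · push Not at him
      obtain ⟨z, h1, h2, h3, h4⟩ := him
      have l1 := (h a z h1 (Ne.symm h3)).1
      have l2 := (h z b h2 h4).1
      have := ih (δ a - δ z).toNat (by omega) a z h1 (Int.self_le_toNat _)
      have := ih (δ z - δ b).toNat (by omega) z b h2 (Int.self_le_toNat _)
      omega

theorem divFun_congr_dimFun {X : Scheme.{u}} {δ δ' : X → ℤ} (h : Cyc.IsDimFun X δ) (h' : Cyc.IsDimFun X δ') (ξ : X)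
    (f : X.residueField ξ) : Cyc.divFun δ ξ f = Cyc.divFun δ' ξ f := by
  funext x
  simp only [Cyc.divFun]
  by_cases hs : ξ ⤳ x
  · have := dimFun_diff h h' hs
    by_cases hd : δ x + 1 = δ ξ
    · rw [dif_pos ⟨hs, hd⟩, dif_pos ⟨hs, by omega⟩]
    · rw [dif_neg fun hh => hd hh.2, dif_neg fun hh => hd (by omega)]
  · rw [dif_neg fun hh => hs hh.1, dif_neg fun hh => hs hh.1]

attribute [local instance] MvPolynomial.algebraMvPolynomial

variable {X P : Scheme.{u}} {E : X.Modules} {π : P ⟶ X} {O1 : P.Modules}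
  {q : (Scheme.Modules.pullback π).obj E ⟶ O1} [Coh.IsQCoh E] {U : X.Opens} {m : ℕ}
  (hP : KRR.IsProjBundle π E O1 q) (hU : IsAffineOpen U)
  (b : Module.Basis (Fin (m + 1)) Γ(X, U) Γ(E, U)) {ξ : X} (hξ : ξ ∈ U)

/-- The residue domain of the base at the point. -/
abbrev Base : Type u := Γ(X, U) ⧸ (hU.primeIdealOf ⟨ξ, hξ⟩).asIdeal

/-- The coordinates of a stratum over the residue domain. -/
noncomputable def coordMap (j : Fin (m + 1)) :
    MvPolynomial (Fin m) Γ(X, U) →+* MvPolynomial (Fin (m - j)) (Base hU hξ) :=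
  MvPolynomial.eval₂Hom (MvPolynomial.C.comp (Ideal.Quotient.mk _)) fun i =>
    if h : (i : ℕ) < j then 0 else MvPolynomial.X ⟨(i : ℕ) - j, by omega⟩

theorem coordMap_surjective (j : Fin (m + 1)) : Function.Surjective (coordMap hU hξ j) := by
  intro g
  induction g using MvPolynomial.induction_on with
  | C a =>
    obtain ⟨a, rfl⟩ := Ideal.Quotient.mk_surjective a
    exact ⟨MvPolynomial.C a, MvPolynomial.eval₂Hom_C _ _ _⟩
  | add p q hp hq =>
    obtain ⟨f, rfl⟩ := hp
    obtain ⟨g, rfl⟩ := hq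
    exact ⟨f + g, map_add _ _ _⟩
  | mul_X p l hp =>
    obtain ⟨f, rfl⟩ := hp
    refine ⟨f * MvPolynomial.X ⟨(l : ℕ) + j, by omega⟩, ?_⟩
    rw [map_mul]
    congr 1
    simp only [coordMap, MvPolynomial.eval₂Hom_X']
    rw [dif_neg (by omega)]
    exact congrArg MvPolynomial.X (Fin.ext (by simp))

theorem ker_coordMap_le (j : Fin (m + 1)) (I : Ideal (MvPolynomial (Fin m) Γ(X, U)))
    (hC : ∀ r ∈ (hU.primeIdealOf ⟨ξ, hξ⟩).asIdeal, MvPolynomial.C r ∈ I)
    (hX : ∀ i : Fin m, (i : ℕ) < j → MvPolynomial.X i ∈ I) : RingHom.ker (coordMap hU hξ j) ≤ I := by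
  let ψ : MvPolynomial (Fin (m - j)) (Base hU hξ) →+* MvPolynomial (Fin m) Γ(X, U) ⧸ I :=
    MvPolynomial.eval₂Hom (Ideal.Quotient.lift _ ((Ideal.Quotient.mk I).comp MvPolynomial.C)
      fun r hr => Ideal.Quotient.eq_zero_iff_mem.2 (hC r hr))
      fun l => Ideal.Quotient.mk I (MvPolynomial.X ⟨(l : ℕ) + j, by omega⟩)
  have h : ψ.comp (coordMap hU hξ j) = Ideal.Quotient.mk I := by
    refine MvPolynomial.ringHom_ext (fun r => ?_) fun i => ?_
    · simp [ψ, coordMap]
    · by_cases hi : (i : ℕ) < j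
      · simp only [ψ, coordMap, RingHom.comp_apply, MvPolynomial.eval₂Hom_X', dif_pos hi, map_zero]
        exact (Ideal.Quotient.eq_zero_iff_mem.2 (hX i hi)).symm
      · simp only [ψ, coordMap, RingHom.comp_apply, MvPolynomial.eval₂Hom_X', dif_neg hi]
        exact congrArg _ (congrArg MvPolynomial.X (Fin.ext (by simp; omega)))
  intro f hf
  rw [← Ideal.Quotient.eq_zero_iff_mem, ← h, RingHom.comp_apply, hf, map_zero]

/-- The residue field of the base at the point, as a fraction field. -/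
abbrev BaseField : Type u := FractionRing (Base hU hξ)

/-- The ring of a stratum. -/
abbrev StratumRing (j : Fin (m + 1)) : Type u := MvPolynomial (Fin (m - j)) (BaseField hU hξ)

/-- The coordinate map of a stratum. -/
noncomputable def stratumMap (j : Fin (m + 1)) : Γ(P, D q (b j)) →+* StratumRing hU hξ j :=
  (MvPolynomial.map (algebraMap (Base hU hξ) (BaseField hU hξ))).comp
    ((coordMap hU hξ j).comp (chartEquiv hP hU b j).symm.toRingHom)

/-- A stratum of the fibre. -/
noncomputable def stratumι (j : Fin (m + 1)) : Spec (CommRingCat.of (StratumRing hU hξ j)) ⟶ P :=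
  Spec.map (CommRingCat.ofHom (stratumMap hP hU b hξ j)) ≫ (isAffineOpen_D hP hU b j).fromSpec

instance isPreimmersion_stratumι (j : Fin (m + 1)) : IsPreimmersion (stratumι hP hU b hξ j) := by
  have h1 : IsPreimmersion (Spec.map (CommRingCat.ofHom (MvPolynomial.map (σ := Fin (m - j))
      (algebraMap (Base hU hξ) (BaseField hU hξ))))) := by
    haveI : IsLocalization ((nonZeroDivisors (Base hU hξ)).map (MvPolynomial.C (σ := Fin (m - j))))
        (StratumRing hU hξ j) := MvPolynomial.isLocalization _ _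
    exact IsPreimmersion.of_isLocalization (S := StratumRing hU hξ j)
      ((nonZeroDivisors (Base hU hξ)).map (MvPolynomial.C (σ := Fin (m - j))))
  have h2 : IsClosedImmersion (Spec.map (CommRingCat.ofHom
      ((coordMap hU hξ j).comp (chartEquiv hP hU b j).symm.toRingHom))) :=
    IsClosedImmersion.spec_of_surjective _
      ((coordMap_surjective hU hξ j).comp (chartEquiv hP hU b j).symm.surjective)
  rw [stratumι, stratumMap, CommRingCat.ofHom_comp, Spec.map_comp]
  infer_instance

theorem mem_range_stratumι {j : Fin (m + 1)} {y : P} :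
    y ∈ Set.range (stratumι hP hU b hξ j) ↔ π y = ξ ∧ y ∈ D q (b j) ∧ ∀ i < j, y ∉ D q (b i) := by
  have hD := isAffineOpen_D hP hU b j
  -- coordinates at a point of the chart
  have hcoord : ∀ (y : P) (hy : y ∈ D q (b j)) (f : MvPolynomial (Fin m) Γ(X, U)),
      chartEquiv hP hU b j f ∈ (hD.primeIdealOf ⟨y, hy⟩).asIdeal ↔ y ∉ P.basicOpen (chartEquiv hP hU b j f) :=
    fun y hy f => mem_primeIdealOf_iff hD hy _
  have hXiff : ∀ (y : P) (hy : y ∈ D q (b j)) (i : Fin (m + 1)) (hi : (i : ℕ) < j),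
      chartEquiv hP hU b j (MvPolynomial.X ⟨(i : ℕ), by omega⟩) ∈ (hD.primeIdealOf ⟨y, hy⟩).asIdeal ↔
        y ∉ D q (b i) := fun y hy i hi => by
    rw [hcoord, chartEquiv_X, mem_basicOpen_coord_iff hy,
      Fin.succAbove_of_castSucc_lt _ _ (show (Fin.castSucc ⟨(i : ℕ), by omega⟩ : Fin (m + 1)) < j from hi)]
    rfl
  constructor
  · rintro ⟨w, rfl⟩
    have hy : stratumι hP hU b hξ j w ∈ D q (b j) := hD.range_fromSpec.le ⟨_, rfl⟩
    have hprime : (hD.primeIdealOf ⟨_, hy⟩).asIdeal = w.asIdeal.comap (stratumMap hP hU b hξ j) :=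
      congrArg PrimeSpectrum.asIdeal (hD.fromSpec.isOpenEmbedding.injective (hD.fromSpec_primeIdealOf _))
    have hval : ∀ f, chartEquiv hP hU b j f ∈ (hD.primeIdealOf ⟨_, hy⟩).asIdeal ↔
        MvPolynomial.map (algebraMap (Base hU hξ) (BaseField hU hξ)) (coordMap hU hξ j f) ∈ w.asIdeal := fun f => by
      rw [hprime, Ideal.mem_comap, stratumMap]
      simp
    refine ⟨?_, hy, fun i hi => ?_⟩
    · have hπ : π (stratumι hP hU b hξ j w) ∈ U := D_le q (b j) hy
      have h : hU.primeIdealOf ⟨_, hπ⟩ = hU.primeIdealOf ⟨ξ, hξ⟩ := by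
        refine PrimeSpectrum.ext (SetLike.ext fun a => ?_)
        refine (comap_chart hP hU b hy a).symm.trans ?_
        rw [← chartEquiv_C hP hU b j a, hval, coordMap, MvPolynomial.eval₂Hom_C, RingHom.comp_apply,
          MvPolynomial.map_C]
        refine ⟨fun ha => ?_, fun ha => by
          rw [Ideal.Quotient.eq_zero_iff_mem.2 ha, map_zero, map_zero]; exact w.asIdeal.zero_mem⟩
        by_contra hne
        refine w.isPrime.ne_top (Ideal.eq_top_of_isUnit_mem _ ha ?_)
        refine (IsUnit.map MvPolynomial.C (isUnit_iff_ne_zero.2 ?_))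
        rw [Ne, map_eq_zero_iff _ (IsFractionRing.injective _ _), Ideal.Quotient.eq_zero_iff_mem]
        exact hne
      have := congrArg hU.fromSpec h
      rwa [hU.fromSpec_primeIdealOf, hU.fromSpec_primeIdealOf] at this
    · rw [← hXiff _ hy i hi, hval, coordMap, MvPolynomial.eval₂Hom_X', dif_pos (show (i : ℕ) < j from hi), map_zero]
      exact w.asIdeal.zero_mem
  · rintro ⟨hπ, hy, hi⟩
    obtain ⟨Q, hQ⟩ : ∃ Q, Q = (hD.primeIdealOf ⟨y, hy⟩).asIdeal.comap (chartEquiv hP hU b j).toRingHom := ⟨_, rfl⟩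
    haveI : Q.IsPrime := hQ ▸ Ideal.IsPrime.comap _
    have hbase : ∀ a, MvPolynomial.C a ∈ Q ↔ a ∈ (hU.primeIdealOf ⟨ξ, hξ⟩).asIdeal := fun a => by
      rw [hQ, Ideal.mem_comap, RingEquiv.toRingHom_eq_coe, RingEquiv.coe_toRingHom]
      rw [chartEquiv_C, comap_chart hP hU b hy, primeIdealOf_congr hU (D_le q (b j) hy) hξ hπ]
    have hker : RingHom.ker (coordMap hU hξ j) ≤ Q := ker_coordMap_le hU hξ j Q (fun r hr => (hbase r).2 hr)
      fun i hij => by
        rw [hQ]
        exact (hXiff y hy i.castSucc hij).2 (hi _ hij)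
    let Q₀ : PrimeSpectrum (MvPolynomial (Fin (m - j)) (Base hU hξ)) :=
      ⟨Q.map (coordMap hU hξ j), Ideal.map_isPrime_of_surjective (coordMap_surjective hU hξ j) hker⟩
    have hQ₀ : Q₀.asIdeal.comap (coordMap hU hξ j) = Q := by
      show (Q.map (coordMap hU hξ j)).comap (coordMap hU hξ j) = Q
      rw [Ideal.comap_map_of_surjective _ (coordMap_surjective hU hξ j)]
      exact sup_eq_left.2 hker
    haveI : IsLocalization ((nonZeroDivisors (Base hU hξ)).map (MvPolynomial.C (σ := Fin (m - j))))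
        (StratumRing hU hξ j) := MvPolynomial.isLocalization _ _
    have hmem : Q₀ ∈ Set.range (PrimeSpectrum.comap
        (algebraMap (MvPolynomial (Fin (m - j)) (Base hU hξ)) (StratumRing hU hξ j))) := by
      rw [PrimeSpectrum.localization_comap_range (StratumRing hU hξ j)
        ((nonZeroDivisors (Base hU hξ)).map (MvPolynomial.C (σ := Fin (m - j))))]
      rw [Set.mem_ofPred_eq, Set.disjoint_left]
      rintro _ ⟨a, ha, rfl⟩ hmem
      obtain ⟨a, rfl⟩ := Ideal.Quotient.mk_surjective a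
      have hC : MvPolynomial.C a ∈ Q := by
        rw [← hQ₀]
        show coordMap hU hξ j (MvPolynomial.C a) ∈ Q₀.asIdeal
        rw [coordMap, MvPolynomial.eval₂Hom_C]
        exact hmem
      exact nonZeroDivisors.ne_zero ha (Ideal.Quotient.eq_zero_iff_mem.2 ((hbase a).1 hC))
    obtain ⟨w, hw⟩ := hmem
    refine ⟨w, ?_⟩
    show hD.fromSpec (Spec.map (CommRingCat.ofHom (stratumMap hP hU b hξ j)) w) = y
    refine Eq.trans (congrArg hD.fromSpec (PrimeSpectrum.ext ?_)) (hD.fromSpec_primeIdealOf ⟨y, hy⟩)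
    show w.asIdeal.comap (stratumMap hP hU b hξ j) = _
    rw [stratumMap, ← Ideal.comap_comap, ← Ideal.comap_comap,
      show w.asIdeal.comap (MvPolynomial.map (algebraMap (Base hU hξ) (BaseField hU hξ))) = Q₀.asIdeal from
        congrArg PrimeSpectrum.asIdeal hw, hQ₀, hQ]
    rw [Ideal.comap_comap]
    ext a
    simp

variable [IsLocallyNoetherian P] {δP : P → ℤ} (hdP : Cyc.IsDimFun P δP)

include hdP in
theorem isDimFun_stratum (j : Fin (m + 1)) :
    Cyc.IsDimFun (Spec (CommRingCat.of (StratumRing hU hξ j))) fun w => δP (stratumι hP hU b hξ j w) := by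
  intro a c hac hne
  have hinj := (stratumι hP hU b hξ j).isEmbedding.injective
  refine ⟨(hdP _ _ (hac.map (stratumι hP hU b hξ j).continuous) (hinj.ne hne)).1, fun him => ?_⟩
  refine (hdP _ _ (hac.map (stratumι hP hU b hξ j).continuous) (hinj.ne hne)).2 fun z h1 h2 => ?_
  obtain ⟨ha1, -, ha3⟩ := (mem_range_stratumι hP hU b hξ).1 ⟨a, rfl⟩
  obtain ⟨hc1, hc2, -⟩ := (mem_range_stratumι hP hU b hξ).1 ⟨c, rfl⟩
  have e1 := h1.map π.continuous
  have e2 := h2.map π.continuous
  rw [ha1] at e1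
  rw [hc1] at e2
  obtain ⟨w, rfl⟩ := (mem_range_stratumι hP hU b hξ).2
    ⟨(e1.antisymm e2).eq.symm, h2.mem_open (D q (b j)).2 hc2, fun i hi hz => ha3 i hi (h1.mem_open (D q (b i)).2 hz)⟩
  rcases him w ((stratumι hP hU b hξ j).isEmbedding.isInducing.specializes_iff.1 h1)
    ((stratumι hP hU b hξ j).isEmbedding.isInducing.specializes_iff.1 h2) with e | e
  · exact Or.inl (congrArg _ e)
  · exact Or.inr (congrArg _ e)

include hdP in
open scoped Classical in
/-- A point of a stratum other than its generic point is a principal divisor inside the fibre, up to points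
outside the stratum. -/
theorem exists_stratum_rel {j : Fin (m + 1)} {η : P} (hη : η ∈ Set.range (stratumι hP hU b hξ j))
    (hne : η ≠ flagPt hP hU b hξ j) :
    ∃ (ι : Type u) (_ : Finite ι) (ζ : ι → P) (g : (i : ι) → P.residueField (ζ i)),
      (∀ i, δP (ζ i) = δP η + 1) ∧ (∀ i, g i ≠ 0) ∧ (∀ i, ζ i ∈ Set.range (stratumι hP hU b hξ j)) ∧
      ∀ y ∈ Set.range (stratumι hP hU b hξ j),
        ∑ᶠ i, Cyc.divFun δP (ζ i) (g i) y = if y = η then 1 else 0 := by
  haveI : IsNoetherianRing (StratumRing hU hξ j) :=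
    MvPolynomial.isNoetherianRing
  obtain ⟨x, rfl⟩ := hη
  let w0 : ↥(Spec (CommRingCat.of (StratumRing hU hξ j))) := ⟨⊥, Ideal.isPrime_bot⟩
  have hgen : ∀ w, w0 ⤳ w := fun w => specializes_iff.2 bot_le
  have hflag : flagPt hP hU b hξ j ∈ Set.range (stratumι hP hU b hξ j) := (mem_range_stratumι hP hU b hξ).2
    ⟨π_flagPtIn hP hU b hξ j j, flagPtIn_mem hP hU b hξ j j, fun i hi h =>
      not_le.2 hi ((flagPtIn_mem_D_iff hP hU b hξ le_rfl i).1 h)⟩
  have hw0 : stratumι hP hU b hξ j w0 = flagPt hP hU b hξ j := by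
    obtain ⟨h1, -, h3⟩ := (mem_range_stratumι hP hU b hξ).1 ⟨w0, rfl⟩
    obtain ⟨wf, hwf⟩ := hflag
    refine (Specializes.antisymm ?_ (flagPt_specializes hP hU b hξ j h1 h3)).eq
    rw [← hwf]
    exact (hgen wf).map (stratumι hP hU b hξ j).continuous
  have hx : x.asIdeal ≠ ⊥ := fun h => hne (by rw [← hw0]; exact congrArg _ (PrimeSpectrum.ext h))
  have hpd := isDimFun_ptDim (str (BaseField hU hξ) (StratumRing hU hξ j))
  have hdW := isDimFun_stratum hP hU b hξ hdP j
  obtain ⟨ι, ζ, g, hζ, hg, hloc, hsum⟩ := good_mvPolynomial (BaseField hU hξ) (m - j) x hx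
  haveI : Finite ι := by
    refine Set.finite_univ_iff.1 ((finite_near ζ hloc isCompact_univ).subset fun i _ => ?_)
    exact ⟨ζ i, subset_closure rfl, trivial⟩
  have hres : ∀ i : ι, ∃ a, ((stratumι hP hU b hξ j).residueFieldMap (ζ i)).hom a = g i := fun i => by
    haveI := DimLib.isIso_residueFieldMap_of_isPreimmersion (stratumι hP hU b hξ j) (ζ i)
    exact (ConcreteCategory.bijective_of_isIso ((stratumι hP hU b hξ j).residueFieldMap (ζ i))).2 (g i)
  choose g' hg' using hres
  have hg'0 : ∀ i, g' i ≠ 0 := fun i h0 => hg i (by rw [← hg' i, h0]; exact map_zero _)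
  refine ⟨ι, inferInstance, fun i => stratumι hP hU b hξ j (ζ i), g', fun i => ?_, hg'0, fun i => ⟨_, rfl⟩,
    fun y hy => ?_⟩
  · have e1 := dimFun_diff hpd hdW (hgen (ζ i))
    have e2 := dimFun_diff hpd hdW (hgen x)
    have e3 := hζ i
    simp only [pd, StratumRing] at e1 e2 e3 ⊢
    omega
  · obtain ⟨w, rfl⟩ := hy
    have key : ∀ i, Cyc.divFun δP (stratumι hP hU b hξ j (ζ i)) (g' i) (stratumι hP hU b hξ j w) =
        Cyc.divFun (pd (BaseField hU hξ)) (ζ i) (g i) w := fun i => by
      rw [← divFun_preimmersion (stratumι hP hU b hξ j) hdP hdW 0 (fun _ => (add_zero _).symm) (ζ i) w (g' i) (hg'0 i),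
        divFun_congr_dimFun hdW hpd]
      exact congrArg (fun z => Cyc.divFun _ (ζ i) z w) (hg' i)
    rw [finsum_congr key, ← hsum w, pt_apply]
    by_cases hwx : w = x
    · subst hwx; simp
    · rw [if_neg hwx, if_neg fun e => hwx ((stratumι hP hU b hξ j).isEmbedding.injective e)]

end Groth.Agent.CycLib28.PB.Span
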