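import Groth.Agent.CycLib28.OrdAt
import Groth.Agent.CycLib28.PB.FlagLocal
import Mathlib

/-!
# Points and stalks of affine schemes
-/

set_option autoImplicit false
set_option linter.style.haveILetI false
set_option backward.isDefEq.respectTransparency.types false

universe u

open AlgebraicGeometry CategoryTheory IsLocalRing

namespace Groth.Agent.CycLib28.PB.Span

variable {R : Type u} [CommRing R]

/-- Specialisation of points of an affine scheme. -/
theorem specializes_iff {x y : ↥(Spec (CommRingCat.of R))} : y ⤳ x ↔ y.asIdeal ≤ x.asIdeal :=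
  (PrimeSpectrum.le_iff_specializes y x).symm

/-- An element of the ring in the stalk. -/
noncomputable def toSt (x : ↥(Spec (CommRingCat.of R))) : R →+* (Spec (CommRingCat.of R)).presheaf.stalk x :=
  (StructureSheaf.toStalk R x).hom

theorem isUnit_toSt (x : ↥(Spec (CommRingCat.of R))) (a : R) : IsUnit (toSt x a) ↔ a ∉ x.asIdeal := by
  letI : Algebra R ((Spec (CommRingCat.of R)).presheaf.stalk x) := (toSt x).toAlgebra
  haveI : IsLocalization.AtPrime ((Spec (CommRingCat.of R)).presheaf.stalk x) x.asIdeal :=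
    inferInstanceAs (IsLocalization.AtPrime ((Spec.structureSheaf R).presheaf.stalk x) x.asIdeal)
  exact IsLocalization.AtPrime.isUnit_to_map_iff _ x.asIdeal a

theorem maximalIdeal_le (x : ↥(Spec (CommRingCat.of R))) (I : Ideal ((Spec (CommRingCat.of R)).presheaf.stalk x))
    (h : ∀ a ∈ x.asIdeal, toSt x a ∈ I) : maximalIdeal ((Spec (CommRingCat.of R)).presheaf.stalk x) ≤ I := by
  letI : Algebra R ((Spec (CommRingCat.of R)).presheaf.stalk x) := (toSt x).toAlgebra
  haveI : IsLocalization.AtPrime ((Spec (CommRingCat.of R)).presheaf.stalk x) x.asIdeal :=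
    inferInstanceAs (IsLocalization.AtPrime ((Spec.structureSheaf R).presheaf.stalk x) x.asIdeal)
  rw [← IsLocalization.AtPrime.map_eq_maximalIdeal x.asIdeal ((Spec (CommRingCat.of R)).presheaf.stalk x)]
  exact Ideal.map_le_iff_le_comap.2 h

theorem toSt_mem_maximalIdeal (x : ↥(Spec (CommRingCat.of R))) {a : R} (h : a ∈ x.asIdeal) :
    toSt x a ∈ maximalIdeal ((Spec (CommRingCat.of R)).presheaf.stalk x) :=
  (mem_maximalIdeal _).2 fun hu => (isUnit_toSt x a).1 hu h

/-- An element of the ring as a rational function at a point. -/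
noncomputable def toRes (ξ : ↥(Spec (CommRingCat.of R))) : R →+* (Spec (CommRingCat.of R)).residueField ξ :=
  ((Spec (CommRingCat.of R)).residue ξ).hom.comp (toSt ξ)

theorem specMap_toSt {x ξ : ↥(Spec (CommRingCat.of R))} (h : ξ ⤳ x) (a : R) :
    Cyc.specMap x ξ h (toSt x a) = toRes ξ a := by
  refine congrArg ((Spec (CommRingCat.of R)).residue ξ).hom ?_
  exact DFunLike.congr_fun (congrArg CommRingCat.Hom.hom (StructureSheaf.toStalk_stalkSpecializes h)) a

theorem toRes_eq_zero (ξ : ↥(Spec (CommRingCat.of R))) (a : R) : toRes ξ a = 0 ↔ a ∈ ξ.asIdeal := by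
  refine (residue_eq_zero_iff (toSt ξ a)).trans ⟨fun h => ?_, toSt_mem_maximalIdeal ξ⟩
  by_contra ha
  exact (mem_maximalIdeal _).1 h ((isUnit_toSt ξ a).2 ha)

end Groth.Agent.CycLib28.PB.Span
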